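import Cfsg.Agent.Mrg.Omega.NO3S.Sym.Light
import Cfsg.Agent.ZN.ChoiceSit

section


/-!
# LightL (E), `n = 5`: facts on `C = C_G(n)`, `T = C_S(n)`, `W = D_n = ⟨V^C⟩` over `FiveL S P p` (helper904)

`n = nn p`, `a = aa p`, `V = zl S P`, `T = Std.T S p`, `C = C_G(n)`, `W = DD V n`, `D = C ⊓ C_G(a)`.

* `syl`, `syl'`, `sylD` : `T` is a Sylow 2-subgroup of `C`, of `C_G(a)` and of `D`;
* `norm_DD`, `DD_el`, `n_mem_DD`, `a_mem_DD`, `p_mem_DD` : `C ≤ N(W)`, `W` is elementary abelian, `n, a, p i ∈ W`;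
* `conj_a_ne` : no `c ∈ C` maps `a` to `a n`; `fix_of_norm` : `N_C(T)` centralises `a`;
* `T_pair` : `T` normalises `{p 0, p 1}`; `DD_le_o2D` : `W ≤ O₂(D)`;
* `swap` : some `s ∈ S` interchanges `n` and `a` and normalises `T`.
-/

set_option autoImplicit false
set_option linter.unusedSectionVars false

namespace Cfsg.Agent.Omega.NO3S.LightB

open Subgroup Cfsg Cfsg.Agent.ZN Cfsg.Agent.Omega.MinPar Cfsg.Agent.Omega.Frame Cfsg.Agent.Omega.FrameNOFF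
open Cfsg.Agent.ZN.ChoiceSit (Syl)
open Cfsg.Agent.Omega.NO3S Cfsg.Agent.Omega.NTwo Cfsg.Agent.Omega.NO3S.Sym.Exit Cfsg.Agent.Omega.NO3S.Sym.Light
open Cfsg.Agent.MinSimple.VModule

universe u

variable {G : Type u} [Group G] [Finite G] {S : Sylow 2 G} {P : Subgroup G} {p : Fin 5 → G}

theorem T_le_C : Std.T (S : Subgroup G) p ≤ centralizer ({nn p} : Set G) := inf_le_right

theorem T_two : IsPGroup 2 (Std.T (S : Subgroup G) p) := S.isPGroup'.to_le Std.T_le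

section five

variable (h : Five S P p)
include h

theorem T_le_Ca : Std.T (S : Subgroup G) p ≤ centralizer ({aa p} : Set G) := fun _ hx =>
  mem_cent.2 (h.std.T_a hx)

theorem T_le_D : Std.T (S : Subgroup G) p ≤ centralizer ({nn p} : Set G) ⊓ centralizer ({aa p} : Set G) :=
  le_inf T_le_C (T_le_Ca h)

/-- some `s ∈ S` interchanges `n` and `a` -/
theorem swap : ∃ s ∈ (S : Subgroup G), s * nn p * s⁻¹ = aa p ∧ s * aa p * s⁻¹ = nn p ∧
    s ∈ normalizer (Std.T (S : Subgroup G) p : Set G) := by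
  obtain ⟨s, hs, h1⟩ := h.std.tau
  exact ⟨s, hs, h1, h.std.s_eq_conj hs h1, h.std.le_norm_T hs⟩

theorem T_pair {t : G} (ht : t ∈ Std.T (S : Subgroup G) p) :
    (t * p 0 * t⁻¹ = p 0 ∧ t * p 1 * t⁻¹ = p 1) ∨ (t * p 0 * t⁻¹ = p 1 ∧ t * p 1 * t⁻¹ = p 0) := by
  obtain ⟨h1, h2⟩ := Std.mem_T.1 ht
  obtain ⟨σ, hσ⟩ := h.std.perm t (h.std.le h1)
  rw [nn, cm, hσ, hσ] at h2
  rw [hσ, hσ]
  rcases h.std.pair_inj (fun e => absurd (σ.injective e) (by decide)) (by decide) h2 with ⟨e1, e2⟩ | ⟨e1, e2⟩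
  · exact Or.inl ⟨by rw [e1], by rw [e2]⟩
  · exact Or.inr ⟨by rw [e1], by rw [e2]⟩

/-- `p 1 = p 0 n` -/
theorem p_one : p 1 = p 0 * nn p := by rw [nn, ← mul_assoc, h.std.sq, one_mul]

end five

theorem syl_of_odd {T X : Subgroup G} (hTX : T ≤ X) (hT : IsPGroup 2 T) (hodd : ¬ 2 ∣ T.relIndex X) :
    Syl T X := by
  have : Fact (Nat.Prime 2) := ⟨Nat.prime_two⟩
  refine ⟨hTX, hT, fun Q hQX hQ hTQ => le_antisymm ?_ hTQ⟩
  obtain ⟨k, hk⟩ := IsPGroup.iff_card.1 hQ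
  have h1 : T.relIndex Q ∣ 2 ^ k := hk ▸ relIndex_dvd_card T Q
  obtain ⟨j, _, hj⟩ := (Nat.dvd_prime_pow Nat.prime_two).1 h1
  have h2 : T.relIndex Q ∣ T.relIndex X := Dvd.intro _ (relIndex_mul_relIndex T Q X hTQ hQX)
  have h3 : j = 0 := by
    by_contra hne
    exact hodd ((dvd_pow_self 2 hne).trans (hj ▸ h2))
  rw [h3, pow_zero] at hj
  exact relIndex_eq_one.1 hj

section light

variable (h : FiveL S P p)
include h

/-- `T` is a Sylow 2-subgroup of `C_G(n)` -/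
theorem syl : Syl (Std.T (S : Subgroup G) p) (centralizer ({nn p} : Set G)) :=
  syl_of_odd T_le_C T_two h.not_dvd

/-- `T` is a Sylow 2-subgroup of `D = C_G(n) ∩ C_G(a)` -/
theorem sylD : Syl (Std.T (S : Subgroup G) p) (centralizer ({nn p} : Set G) ⊓ centralizer ({aa p} : Set G)) :=
  ⟨T_le_D h.toFive, T_two, fun Q hQ hQ2 hTQ => (syl h).2.2 Q (hQ.trans inf_le_left) hQ2 hTQ⟩

/-- `T` is a Sylow 2-subgroup of `C_G(a)` -/
theorem sylA : Syl (Std.T (S : Subgroup G) p) (centralizer ({aa p} : Set G)) := by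
  refine ⟨T_le_Ca h.toFive, T_two, fun Q hQ hQ2 hTQ => ?_⟩
  obtain ⟨s, -, -, hs2, hsT⟩ := swap h.toFive
  have e : ChoiceBase.cj s (Std.T (S : Subgroup G) p) = Std.T (S : Subgroup G) p :=
    ChoiceBase.cj_eq_of_mem_normalizer hsT
  have h1 : ChoiceBase.cj s Q ≤ centralizer ({nn p} : Set G) := by
    rintro _ ⟨x, hx, rfl⟩
    have hx' := mem_cent.1 (hQ hx)
    refine mem_cent.2 ?_
    change s * x * s⁻¹ * nn p * (s * x * s⁻¹)⁻¹ = nn p
    calc s * x * s⁻¹ * nn p * (s * x * s⁻¹)⁻¹ = s * (x * (s⁻¹ * nn p * s) * x⁻¹) * s⁻¹ := by group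
      _ = s * (x * aa p * x⁻¹) * s⁻¹ := by rw [← hs2]; group
      _ = nn p := by rw [hx', hs2]
  have h2 : ChoiceBase.cj s Q = Std.T (S : Subgroup G) p := by
    refine (syl h).2.2 _ h1 ?_ ?_
    · exact hQ2.map _
    · rw [← e]
      exact ChoiceBase.cj_mono s hTQ
  refine le_antisymm ?_ hTQ
  rw [← e] at h2
  intro x hx
  have h3 : s * x * s⁻¹ ∈ ChoiceBase.cj s (Std.T (S : Subgroup G) p) := h2 ▸ ⟨x, hx, rfl⟩
  obtain ⟨y, hy, h4⟩ := h3
  have h5 : s * y * s⁻¹ = s * x * s⁻¹ := h4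
  rwa [conj_inj h5] at hy

/-! ### `W = D_n` -/

omit h [Finite G] in
theorem norm_DD : centralizer ({nn p} : Set G) ≤ normalizer (DD (zl (S : Subgroup G) P) (nn p) : Set G) :=
  cent_le_normalizer_DD

theorem DD_el : IsElementaryAbelian 2 (DD (zl (S : Subgroup G) P) (nn p)) :=
  ⟨⟨⟨fun x y => Subtype.ext (mem_centralizer_iff.1 (h.DD_comm y.2) x x.2)⟩⟩, fun x hx => h.DD_sq x hx⟩

theorem n_mem_DD : nn p ∈ DD (zl (S : Subgroup G) P) (nn p) := le_DD h.n_mem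

theorem a_mem_DD : aa p ∈ DD (zl (S : Subgroup G) P) (nn p) := le_DD h.a_mem

theorem p_mem_DD (i : Fin 5) : p i ∈ DD (zl (S : Subgroup G) P) (nn p) := le_DD (h.p_mem i)

theorem DD_le_Ca : DD (zl (S : Subgroup G) P) (nn p) ≤ centralizer ({aa p} : Set G) := by
  intro x hx
  rw [mem_centralizer_singleton_iff]
  exact (mem_centralizer_iff.1 (h.DD_comm hx) _ (a_mem_DD h)).symm

/-! ### `O₂(C) ≤ O₂(D)` -/

theorem o2_le_o2D : o2 (centralizer ({nn p} : Set G)) ≤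
    o2 (centralizer ({nn p} : Set G) ⊓ centralizer ({aa p} : Set G)) :=
  ChoiceSit.le_o2 (ChoiceSit.isPGroup_o2 _) (h.o2_le_T.trans (T_le_D h.toFive))
    (inf_le_left.trans (le_normalizer_o2 _))

/-- **`W ≤ O₂(D)`** -/
theorem DD_le_o2D : DD (zl (S : Subgroup G) P) (nn p) ≤
    o2 (centralizer ({nn p} : Set G) ⊓ centralizer ({aa p} : Set G)) :=
  h.DD_le_o2.trans (o2_le_o2D h)

/-! ### fixed points -/

/-- `a` and `a n = p 4` are not conjugate in `C_G(n)` -/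
theorem conj_a_ne {c : G} (hc : c * nn p * c⁻¹ = nn p) : c * aa p * c⁻¹ ≠ aa p * nn p := by
  intro e
  obtain ⟨s, -, -, hs2, -⟩ := swap h.toFive
  refine h.not_conj (s * c) ?_
  calc s * c * p 4 * (s * c)⁻¹ = s * (c * aa p * c⁻¹ * (c * nn p * c⁻¹)) * s⁻¹ := by rw [← h.std.an]; group
    _ = s * aa p * s⁻¹ := by rw [e, hc, mul_assoc (aa p), h.std.nsq, mul_one]
    _ = nn p := hs2

/-- **`N_C(T)` centralises `a`** -/
theorem fix_of_norm {g : G} (hg : g * nn p * g⁻¹ = nn p) (hgT : g ∈ normalizer (Std.T (S : Subgroup G) p : Set G)) :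
    g * aa p * g⁻¹ = aa p := by
  have h1 : g * aa p * g⁻¹ ∈ zc (Std.T (S : Subgroup G) p) :=
    (mem_normalizer_iff.1 (normalizer_le_normalizer_zc _ hgT) _).1 (h.std.mem_zcT.2 (Or.inr (Or.inr (Or.inl rfl))))
  rcases h.std.mem_zcT.1 h1 with h2 | h2 | h2 | h2
  · exfalso
    apply h.std.a_ne_one
    calc aa p = g⁻¹ * (g * aa p * g⁻¹) * g := by group
      _ = 1 := by rw [h2]; group
  · exfalso
    apply h.std.n_ne_a
    exact (conj_inj (g := g) (h2.trans hg.symm)).symm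
  · exact h2
  · exact absurd (h2.trans h.std.an.symm) (conj_a_ne h hg)

theorem norm_le_D : centralizer ({nn p} : Set G) ⊓ normalizer (Std.T (S : Subgroup G) p : Set G) ≤
    centralizer ({nn p} : Set G) ⊓ centralizer ({aa p} : Set G) := fun _ hg =>
  ⟨hg.1, mem_cent.2 (fix_of_norm h (mem_cent.1 hg.1) hg.2)⟩

end light

end Cfsg.Agent.Omega.NO3S.LightB

end

section


/-!
# LightL (E), `n = 5`: the groups `O_{ab|cd} = O₂(C_G(z_a z_b, z_c z_d))` over `FiveL S P p` (helper740)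

`V = zl S P`, `Q = O₂(P)`, `T = Std.T S p`; `OO x y = O₂(C_G(x) ∩ C_G(y))`.

* `cj_OO`, `exists_letters`, **`exists_cj`** : `O_{ab|cd} = O_{01|23}^g` for some `g ∈ P` (so `V^g = V`, `Q^g = Q`)
  which maps `p 0, p 1, p 2, p 3` to `p a, p b, p c, p d`;
* **`OO_le_norm`** : `O_{ab|cd} ≤ N_G(Q)`; **`OO_cent_le`** : `O_{ab|cd} ∩ C_G(V) ≤ Q`; `OO_le_P`;
* `DD_le_OO`, `DD_le_OO'`, `V_le_OO` : `⟨V ^ C_G(z_a z_b)⟩ ≤ O_{ab|cd}`;
* **`OO_act`** : the elements of `O_{ab|cd}` act on the five points as `1`, `(a b)`, `(c d)` or `(a b)(c d)`.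
-/

set_option autoImplicit false
set_option linter.unusedSectionVars false

namespace Cfsg.Agent.Omega.NO3S.TwoA.PairFacts

open Subgroup Cfsg Cfsg.Agent.ZN Cfsg.Agent.Omega.MinPar Cfsg.Agent.Omega.Frame Cfsg.Agent.Omega.FrameNOFF
open Cfsg.Agent.ZN.ChoiceBase (cj cj_mono mem_cj)
open Cfsg.Agent.Omega.NO3S Cfsg.Agent.Omega.NTwo Cfsg.Agent.Omega.NO3S.Sym.Exit Cfsg.Agent.Omega.NO3S.Sym.Light
open Cfsg.Agent.MinSimple.VModule
open scoped Pointwise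

universe u

section general

variable {G : Type u} [Group G]

/-- `O₂(C_G(x) ∩ C_G(y))` -/
abbrev OO [Finite G] (x y : G) : Subgroup G :=
  o2 (centralizer ({x} : Set G) ⊓ centralizer ({y} : Set G))

theorem OO_symm [Finite G] (x y : G) : OO x y = OO y x := by
  rw [OO, OO, inf_comm]

theorem exists_letters : ∀ a b c d : Fin 5, a ≠ b → a ≠ c → a ≠ d → b ≠ c → b ≠ d → c ≠ d →
    ∃ σ : Equiv.Perm (Fin 5), σ 0 = a ∧ σ 1 = b ∧ σ 2 = c ∧ σ 3 = d := by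
  decide +kernel

theorem cj_cent (g x : G) : cj g (centralizer ({x} : Set G)) = centralizer ({g * x * g⁻¹} : Set G) := by
  ext y
  rw [mem_cj, mem_cent, mem_cent]
  constructor
  · intro h
    calc y * (g * x * g⁻¹) * y⁻¹ = g * (g⁻¹ * y * g * x * (g⁻¹ * y * g)⁻¹) * g⁻¹ := by group
      _ = g * x * g⁻¹ := by rw [h]
  · intro h
    calc g⁻¹ * y * g * x * (g⁻¹ * y * g)⁻¹ = g⁻¹ * (y * (g * x * g⁻¹) * y⁻¹) * g := by group
      _ = x := by rw [h]; group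

theorem cj_OO [Finite G] (g x y : G) : cj g (OO x y) = OO (g * x * g⁻¹) (g * y * g⁻¹) := by
  rw [OO, OO, ← ChoiceSit.o2_cj, ChoiceBase.cj_inf, cj_cent, cj_cent]

theorem conj_eq_cj (g : G) (A : Subgroup G) : MulAut.conj g • A = cj g A := rfl

end general

section five

variable {G : Type u} [Group G] [Finite G] {S : Sylow 2 G} {P : Subgroup G} {p : Fin 5 → G}

theorem cj_Q {g : G} (hg : g ∈ P) : cj g (o2 P) = o2 P :=
  ChoiceBase.cj_eq_of_mem_normalizer (le_normalizer_o2 P hg)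

theorem cj_V {g : G} (hg : g ∈ P) : cj g (zl (S : Subgroup G) P) = zl (S : Subgroup G) P := conj_V hg

theorem cS_eq (h : Five S P p) : (S : Subgroup G) ⊓ centralizer (zl (S : Subgroup G) P : Set G) = o2 P :=
  h.star.inf_centralizer S h.ctx.char2

theorem Q_le (h : Five S P p) : o2 P ≤ centralizer (zl (S : Subgroup G) P : Set G) := by
  rw [← cS_eq h]; exact inf_le_right

theorem Q_le_T (h : Five S P p) : o2 P ≤ Std.T (S : Subgroup G) p := by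
  intro x hx
  rw [← cS_eq h] at hx
  exact ⟨hx.1, mem_cent.2 (comm_iff.2 (mem_centralizer_iff.1 hx.2 _ h.n_mem).symm)⟩

end five

section light

variable {G : Type u} [Group G] [Finite G] {S : Sylow 2 G} {P : Subgroup G} {p : Fin 5 → G} (h : FiveL S P p)
include h

/-- `O₂(D) ≤ T` -/
theorem OO_le_T : OO (nn p) (aa p) ≤ Std.T (S : Subgroup G) p := ChoiceSit.o2_le_syl (LightB.sylD h)

/-- **`O_{ab|cd} = O_{01|23}^g` with `g ∈ P`** -/
theorem exists_cj {a b c d : Fin 5} (hab : a ≠ b) (hac : a ≠ c) (had : a ≠ d) (hbc : b ≠ c) (hbd : b ≠ d)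
    (hcd : c ≠ d) : ∃ g ∈ P, ∃ σ : Equiv.Perm (Fin 5), (∀ i, g * p i * g⁻¹ = p (σ i)) ∧
      (σ 0 = a ∧ σ 1 = b ∧ σ 2 = c ∧ σ 3 = d) ∧
      OO (p a * p b) (p c * p d) = cj g (OO (nn p) (aa p)) ∧ cj g (o2 P) = o2 P ∧
      cj g (zl (S : Subgroup G) P) = zl (S : Subgroup G) P := by
  obtain ⟨σ, e0, e1, e2, e3⟩ := exists_letters a b c d hab hac had hbc hbd hcd
  obtain ⟨g, hg, hσ⟩ := h.std.full σ
  refine ⟨g, hg, σ, hσ, ⟨e0, e1, e2, e3⟩, ?_, cj_Q hg, cj_V hg⟩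
  rw [cj_OO, nn, aa, cm, cm, hσ, hσ, hσ, hσ, e0, e1, e2, e3]

theorem OO_le_P {a b c d : Fin 5} (hab : a ≠ b) (hac : a ≠ c) (had : a ≠ d) (hbc : b ≠ c) (hbd : b ≠ d)
    (hcd : c ≠ d) : OO (p a * p b) (p c * p d) ≤ P := by
  obtain ⟨g, hg, -, -, -, e, -, -⟩ := exists_cj h hab hac had hbc hbd hcd
  rw [e]
  intro x hx
  have h1 := h.std.le (Std.T_le (OO_le_T h (mem_cj.1 hx)))
  have h2 := mul_mem (mul_mem hg h1) (inv_mem hg)
  have h3 : g * (g⁻¹ * x * g) * g⁻¹ = x := by group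
  rwa [h3] at h2

/-- **`O_{ab|cd}` normalises `Q`** -/
theorem OO_le_norm {a b c d : Fin 5} (hab : a ≠ b) (hac : a ≠ c) (had : a ≠ d) (hbc : b ≠ c) (hbd : b ≠ d)
    (hcd : c ≠ d) : OO (p a * p b) (p c * p d) ≤ normalizer (o2 P : Set G) :=
  (OO_le_P h hab hac had hbc hbd hcd).trans (le_normalizer_o2 P)

/-- `O_{ab|cd}` normalises `V` -/
theorem OO_le_normV {a b c d : Fin 5} (hab : a ≠ b) (hac : a ≠ c) (had : a ≠ d) (hbc : b ≠ c) (hbd : b ≠ d)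
    (hcd : c ≠ d) : OO (p a * p b) (p c * p d) ≤ normalizer (zl (S : Subgroup G) P : Set G) :=
  (OO_le_P h hab hac had hbc hbd hcd).trans (le_normalizer_zl _ _)

/-- **`O_{ab|cd} ∩ C_G(V) ≤ Q`** -/
theorem OO_cent_le {a b c d : Fin 5} (hab : a ≠ b) (hac : a ≠ c) (had : a ≠ d) (hbc : b ≠ c) (hbd : b ≠ d)
    (hcd : c ≠ d) : OO (p a * p b) (p c * p d) ⊓ centralizer (zl (S : Subgroup G) P : Set G) ≤ o2 P := by
  obtain ⟨g, hg, -, -, -, e, eQ, eV⟩ := exists_cj h hab hac had hbc hbd hcd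
  rw [e, ← eV, ← ChoiceBase.cj_centralizer, ← ChoiceBase.cj_inf, ← eQ]
  refine cj_mono g ?_
  rw [← cS_eq h.toFive]
  exact le_inf (inf_le_left.trans ((OO_le_T h).trans Std.T_le)) inf_le_right

/-- `⟨V ^ C_G(z_a z_b)⟩ ≤ O_{ab|cd}` -/
theorem DD_le_OO {a b c d : Fin 5} (hab : a ≠ b) (hac : a ≠ c) (had : a ≠ d) (hbc : b ≠ c) (hbd : b ≠ d)
    (hcd : c ≠ d) : DD (zl (S : Subgroup G) P) (p a * p b) ≤ OO (p a * p b) (p c * p d) := by
  obtain ⟨g, hg, σ, hσ, ⟨e0, e1, e2, e3⟩, e, eQ, eV⟩ := exists_cj h hab hac had hbc hbd hcd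
  have h1 : cj g (DD (zl (S : Subgroup G) P) (nn p)) = DD (zl (S : Subgroup G) P) (p a * p b) := by
    rw [← conj_eq_cj, conj_DD, conj_eq_cj, eV, nn, cm, hσ, hσ, e0, e1]
  rw [e, ← h1]
  exact cj_mono g (LightB.DD_le_o2D h)

/-- `⟨V ^ C_G(z_c z_d)⟩ ≤ O_{ab|cd}` -/
theorem DD_le_OO' {a b c d : Fin 5} (hab : a ≠ b) (hac : a ≠ c) (had : a ≠ d) (hbc : b ≠ c) (hbd : b ≠ d)
    (hcd : c ≠ d) : DD (zl (S : Subgroup G) P) (p c * p d) ≤ OO (p a * p b) (p c * p d) := by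
  rw [OO_symm]
  exact DD_le_OO h hcd hac.symm hbc.symm had.symm hbd.symm hab

/-- `V ≤ O_{ab|cd}` -/
theorem V_le_OO {a b c d : Fin 5} (hab : a ≠ b) (hac : a ≠ c) (had : a ≠ d) (hbc : b ≠ c) (hbd : b ≠ d)
    (hcd : c ≠ d) : zl (S : Subgroup G) P ≤ OO (p a * p b) (p c * p d) :=
  le_DD.trans (DD_le_OO h hab hac had hbc hbd hcd)

omit h in
theorem perm_cases : ∀ a b c d : Fin 5, a ≠ b → a ≠ c → a ≠ d → b ≠ c → b ≠ d → c ≠ d →
    ∀ τ : Equiv.Perm (Fin 5), ((τ a = a ∧ τ b = b) ∨ (τ a = b ∧ τ b = a)) → ((τ c = c ∧ τ d = d) ∨ (τ c = d ∧ τ d = c)) →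
    τ = 1 ∨ τ = Equiv.swap a b ∨ τ = Equiv.swap c d ∨ τ = Equiv.swap a b * Equiv.swap c d := by
  decide +kernel

/-- **The action of `O_{ab|cd}` on the five points.** -/
theorem OO_act {a b c d : Fin 5} (hab : a ≠ b) (hac : a ≠ c) (had : a ≠ d) (hbc : b ≠ c) (hbd : b ≠ d)
    (hcd : c ≠ d) {x : G} (hx : x ∈ OO (p a * p b) (p c * p d)) : ∃ τ : Equiv.Perm (Fin 5),
      (∀ i, x * p i * x⁻¹ = p (τ i)) ∧
      (τ = 1 ∨ τ = Equiv.swap a b ∨ τ = Equiv.swap c d ∨ τ = Equiv.swap a b * Equiv.swap c d) := by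
  obtain ⟨τ, hτ⟩ := h.std.perm x (OO_le_P h hab hac had hbc hbd hcd hx)
  refine ⟨τ, hτ, perm_cases a b c d hab hac had hbc hbd hcd τ ?_ ?_⟩
  · have h1 := mem_cent.1 (o2_le _ hx).1
    rw [cm, hτ, hτ] at h1
    exact h.std.pair_inj (fun e => hab (τ.injective e)) hab h1
  · have h1 := mem_cent.1 (o2_le _ hx).2
    rw [cm, hτ, hτ] at h1
    exact h.std.pair_inj (fun e => hcd (τ.injective e)) hcd h1

end light

end Cfsg.Agent.Omega.NO3S.TwoA.PairFacts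

end
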